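import Groth.Agent.S3034
import Groth.Agent.L08.GrpDim
import Groth.Agent.L06.LocalDimFlat
import Groth.Agent.L22.GeomConn.Crit
import Groth.Agent.L15.SubGrp.Image
import Groth.Prelude.Def_ActBC

/-!
For a quasi-compact homomorphism of group schemes over an Artinian local ring the image is closed and the dimension
of the source is the dimension of the image plus the dimension of the kernel.
-/

set_option autoImplicit false
universe u

open CategoryTheory CategoryTheory.Limits MonoidalCategory CartesianMonoidalCategory MonObj AlgebraicGeometry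

set_option backward.isDefEq.respectTransparency.types false

namespace Groth.L15.KerDim

open Groth.L25

variable {k : Type u} [Field k]

theorem hom_one {G H : Over (Spec (CommRingCat.of k))} [GrpObj G] [GrpObj H] (u : G ⟶ H) [IsMonHom u] :
    u.left (Component.one G) = Component.one H :=
  congr(($(IsMonHom.one_hom u)).left (IsLocalRing.closedPoint k))

theorem range_pullback_unit {S : Scheme.{u}} {G H : Over S} [GrpObj H] (u : G ⟶ H) :
    Set.range (pullback.fst u.left (η[H] : 𝟙_ (Over S) ⟶ H).left) = u.left ⁻¹' Set.range η[H].left :=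
  Scheme.Pullback.range_fst _ _

/-- Flat surjective homomorphisms: dimension is additive. -/
theorem dim_eq_of_flat {G C : Over (Spec (CommRingCat.of k))} [GrpObj G] [GrpObj C] [LocallyOfFiniteType G.hom]
    [LocallyOfFiniteType C.hom] (p : G ⟶ C) [IsMonHom p] [Flat p.left] :
    topologicalKrullDim G.left =
      topologicalKrullDim C.left + topologicalKrullDim ↥(p.left ⁻¹' {Component.one C}) := by
  haveI : IsLocallyNoetherian G.left := LocallyOfFiniteType.isLocallyNoetherian G.hom
  haveI : IsLocallyNoetherian C.left := LocallyOfFiniteType.isLocallyNoetherian C.hom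
  let c := Component.one C
  have hec : p.left (Component.one G) = c := hom_one p
  let F := p.left.fiber c
  -- the fibre is the kernel, a group scheme
  haveI : Subsingleton ↥(𝟙_ (Over (Spec (CommRingCat.of k)))).left :=
    inferInstanceAs (Subsingleton (PrimeSpectrum k))
  let o : ↥(𝟙_ (Over (Spec (CommRingCat.of k)))).left := IsLocalRing.closedPoint k
  let K : Over (Spec (CommRingCat.of k)) := pullback p η[C]
  let j : K ⟶ G := pullback.fst p η[C]
  have sq : IsPullback j.left (pullback.snd p η[C]).left p.left (η[C] : 𝟙_ _ ⟶ C).left :=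
    (IsPullback.of_hasPullback p η[C]).map (Over.forget _)
  obtain ⟨gK, hj⟩ : ∃ _ : GrpObj K, IsMonHom j := by
    haveI : Mono j := pullback.fst_of_mono
    have hK : ∀ {X : Over (Spec (CommRingCat.of k))} (a : X ⟶ G), a ≫ p = 1 → ∃ b : X ⟶ K, b ≫ j = a :=
      fun {X} a ha => ⟨pullback.lift a (toUnit X) (by rw [ha, Hom.one_def]), pullback.lift_fst _ _ _⟩
    have hjp : j ≫ p = 1 := by
      simp only [j]
      rw [pullback.condition, Hom.one_def, toUnit_unique (pullback.snd p η[C]) (toUnit K)]
    obtain ⟨e, he⟩ := hK (1 : 𝟙_ _ ⟶ G) (MonObj.one_comp p)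
    obtain ⟨m, hm⟩ := hK ((fst K K ≫ j) * (snd K K ≫ j)) (by
      rw [MonObj.mul_comp, Category.assoc, Category.assoc, hjp, MonObj.comp_one, MonObj.comp_one, _root_.one_mul])
    obtain ⟨i, hi⟩ := hK j⁻¹ (by rw [GrpObj.inv_comp, hjp, _root_.inv_one])
    exact Groth.L15.SubGrp.exists_grpObj_of_mono j e he m hm i hi
  haveI : LocallyOfFiniteType K.hom := by
    rw [← Over.w j]
    haveI : LocallyOfFiniteType j.left := by
      haveI : LocallyOfFiniteType (η[C] : 𝟙_ _ ⟶ C).left := by
        haveI : LocallyOfFiniteType ((η[C] : 𝟙_ _ ⟶ C).left ≫ C.hom) := by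
          rw [Over.w]; exact inferInstanceAs (LocallyOfFiniteType (𝟙 _))
        exact locallyOfFiniteType_of_comp _ C.hom
      exact MorphismProperty.of_isPullback sq.flip ‹LocallyOfFiniteType (η[C] : 𝟙_ _ ⟶ C).left›
    infer_instance
  -- the residue field of the unit point is `k`
  let s := Scheme.SpecToEquivOfField k C.left (η[C] : 𝟙_ _ ⟶ C).left
  have hη : (η[C] : 𝟙_ _ ⟶ C).left = Spec.map s.2 ≫ C.left.fromSpecResidueField s.1 :=
    ((Scheme.SpecToEquivOfField k C.left).symm_apply_apply _).symm
  have hs : s.1 = c := by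
    have h := congr($(hη) o)
    rw [Scheme.Hom.comp_apply, Scheme.fromSpecResidueField_apply] at h
    exact h.symm
  haveI : IsIso (Spec.map s.2) := by
    obtain ⟨α, hα⟩ := Spec.map_surjective (C.left.fromSpecResidueField s.1 ≫ C.hom)
    have h : α ≫ s.2 = 𝟙 _ := by
      apply Spec.map_injective
      rw [Spec.map_comp, hα, ← Category.assoc, ← hη, Spec.map_id]
      exact Over.w η[C]
    haveI : IsIso s.2 := by
      have hbij : Function.Bijective s.2.hom :=
        ⟨s.2.hom.injective, fun a => ⟨α a, congr($h a)⟩⟩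
      exact (ConcreteCategory.isIso_iff_bijective s.2).2 hbij
    infer_instance
  have hm2 : (η[C] : 𝟙_ _ ⟶ C).left ≫ 𝟙 _ = Spec.map s.2 ≫ C.left.fromSpecResidueField s.1 := by
    rw [Category.comp_id]; exact hη
  have hiso : IsIso (pullback.map p.left (η[C] : 𝟙_ _ ⟶ C).left p.left (C.left.fromSpecResidueField s.1)
      (𝟙 _) (Spec.map s.2) (𝟙 _) ((Category.comp_id _).trans (Category.id_comp _).symm) hm2) :=
    pullback.map_isIso _ _ _ _ _ _ _ _ _
  let e : K.left ≅ p.left.fiber s.1 :=
    sq.isoPullback ≪≫ @asIso _ _ _ _ (pullback.map p.left (η[C] : 𝟙_ _ ⟶ C).left p.left (C.left.fromSpecResidueField s.1)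
      (𝟙 _) (Spec.map s.2) (𝟙 _) ((Category.comp_id _).trans (Category.id_comp _).symm) hm2) hiso
  have hdimK : topologicalKrullDim K.left = topologicalKrullDim ↥(p.left ⁻¹' {c}) := by
    have hmono : Topology.IsEmbedding j.left := by
      haveI : IsPreimmersion (η[C] : 𝟙_ _ ⟶ C).left := by
        rw [hη]; infer_instance
      haveI : IsPreimmersion j.left := MorphismProperty.of_isPullback sq.flip ‹IsPreimmersion (η[C] : 𝟙_ _ ⟶ C).left›
      exact j.left.isEmbedding
    have hr : Set.range j.left = p.left ⁻¹' {c} := by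
      have h1 := range_pullback_unit p
      have h2 : Set.range (η[C] : 𝟙_ _ ⟶ C).left = {c} :=
        Set.eq_singleton_iff_unique_mem.2 ⟨⟨o, rfl⟩, by
          rintro _ ⟨q, rfl⟩; exact congrArg _ (Subsingleton.elim _ _)⟩
      rw [h2] at h1
      rw [← h1, ← sq.isoPullback_hom_fst, Scheme.Hom.comp_base, TopCat.coe_comp,
        sq.isoPullback.hom.surjective.range_comp]
    exact IsHomeomorph.topologicalKrullDim_eq _ (hmono.toHomeomorph.trans (Homeomorph.setCongr hr)).isHomeomorph
  have hfib : ∀ z : p.left.fiber s.1, IsClosed ({z} : Set (p.left.fiber s.1)) →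
      ringKrullDim ((p.left.fiber s.1).presheaf.stalk z) = topologicalKrullDim K.left := by
    intro z hz
    have h : IsClosed ({e.inv z} : Set K.left) := by
      rw [← Set.image_singleton]
      exact e.inv.homeomorph.isClosedMap _ hz
    rw [← Groth.L08.GrpDim.ringKrullDim_stalk K _ h]
    exact (ringKrullDim_eq_of_ringEquiv (asIso (e.inv.stalkMap z)).commRingCatIsoToRingEquiv).symm
  have h1 := Groth.L06.LocalDimFlat.stalk_formula p.left (Component.one G)
  have hG := Groth.L08.GrpDim.ringKrullDim_stalk G _ (Groth.L08.GrpDim.isClosed_one G)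
  have hC := Groth.L08.GrpDim.ringKrullDim_stalk C _ (Groth.L08.GrpDim.isClosed_one C)
  have key : ∀ y : C.left, y = s.1 → ∀ z : p.left.fiber y, IsClosed ({z} : Set (p.left.fiber y)) →
      ringKrullDim ((p.left.fiber y).presheaf.stalk z) = topologicalKrullDim K.left := by
    rintro y rfl; exact hfib
  have hzc : IsClosed ({p.left.asFiber (Component.one G)} : Set (p.left.fiber (p.left (Component.one G)))) := by
    have h := (Groth.L08.GrpDim.isClosed_one G).preimage (p.left.fiberι (p.left (Component.one G))).continuous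
    rwa [show (p.left.fiberι (p.left (Component.one G))) ⁻¹' {Component.one G} = {p.left.asFiber (Component.one G)} by
      ext w
      constructor
      · intro hw
        exact (p.left.fiberι _).isEmbedding.injective ((Set.mem_singleton_iff.1 hw).trans
          (Scheme.Hom.fiberι_asFiber _ _).symm)
      · intro hw
        rw [Set.mem_singleton_iff.1 hw]
        exact Scheme.Hom.fiberι_asFiber _ _] at h
  rw [← hG, h1, key _ (hec.trans hs.symm) _ hzc, hdimK, hec, hC]

theorem isClosed_range_and_dim {G H : Over (Spec (CommRingCat.of k))} [GrpObj G] [GrpObj H]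
    [LocallyOfFiniteType G.hom] [LocallyOfFiniteType H.hom] (u : G ⟶ H) [IsMonHom u] [QuasiCompact u.left] :
    IsClosed (Set.range u.left) ∧
      topologicalKrullDim G.left =
        topologicalKrullDim ↥(Set.range u.left) + topologicalKrullDim ↥(u.left ⁻¹' {Component.one H}) := by
  haveI : Flat G.hom := Groth.L22.GeomConn.flat_toSpecField _
  obtain ⟨C, _, p, i, hp, hi, hpi, hpf, hps, -, hic⟩ :=
    Groth.Agent.S3034.result k G H u (Groth.L22.GeomConn.flat_toSpecField _)
  haveI := hp
  haveI := hi
  haveI := hpf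
  haveI := hic
  haveI : LocallyOfFiniteType C.hom := by rw [← Over.w i]; infer_instance
  have hr : Set.range u.left = Set.range i.left := by
    rw [← hpi, Over.comp_left, Scheme.Hom.comp_base, TopCat.coe_comp, hps.surj.range_comp]
  refine ⟨hr ▸ i.left.isClosedEmbedding.isClosed_range, ?_⟩
  have hk : u.left ⁻¹' {Component.one H} = p.left ⁻¹' {Component.one C} := by
    ext x
    rw [← hpi]
    exact ⟨fun h => i.left.isEmbedding.injective (Eq.trans h (hom_one i).symm),
      fun h => (congrArg i.left (Set.mem_singleton_iff.1 h)).trans (hom_one i)⟩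
  have hdim : topologicalKrullDim C.left = topologicalKrullDim ↥(Set.range u.left) :=
    IsHomeomorph.topologicalKrullDim_eq _
      (i.left.isEmbedding.toHomeomorph.trans (Homeomorph.setCongr hr.symm)).isHomeomorph
  rw [hk, ← hdim]
  exact dim_eq_of_flat p

theorem isClosed_range_and_dim_artinian (A : Type u) [CommRing A] [IsArtinianRing A] [IsLocalRing A]
    (G H : Over (Spec (CommRingCat.of A))) [GrpObj G] [GrpObj H] [LocallyOfFiniteType G.hom]
    [LocallyOfFiniteType H.hom] (u : G ⟶ H) [IsMonHom u] [QuasiCompact u.left] :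
    IsClosed (Set.range u.left.base) ∧
    topologicalKrullDim G.left =
      topologicalKrullDim (Set.range u.left.base) +
        topologicalKrullDim ↥(Limits.pullback u.left (η[H] : 𝟙_ (Over (Spec (CommRingCat.of A))) ⟶ H).left) := by
  let t : Spec (CommRingCat.of (IsLocalRing.ResidueField A)) ⟶ Spec (CommRingCat.of A) :=
    Spec.map (CommRingCat.ofHom (IsLocalRing.residue A))
  haveI : IsClosedImmersion t := IsClosedImmersion.spec_of_surjective _ IsLocalRing.residue_surjective
  haveI : Surjective t := ⟨fun s => ⟨IsLocalRing.closedPoint _, Subsingleton.elim (α := PrimeSpectrum A) _ _⟩⟩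
  let π : ∀ X : Over (Spec (CommRingCat.of A)), (Red.bc t X).left ⟶ X.left := fun X => pullback.fst X.hom t
  haveI hπ1 : ∀ X, IsClosedImmersion (π X) := fun X => MorphismProperty.pullback_fst _ _ ‹IsClosedImmersion t›
  haveI hπ2 : ∀ X, Surjective (π X) := fun X => MorphismProperty.pullback_fst _ _ ‹Surjective t›
  let e : ∀ X : Over (Spec (CommRingCat.of A)), (Red.bc t X).left ≃ₜ X.left := fun X =>
    (π X).isClosedEmbedding.isEmbedding.toHomeomorphOfSurjective (π X).surjective
  let u' : Red.bc t G ⟶ Red.bc t H := (Over.pullback t).map u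
  haveI : IsMonHom u' := inferInstanceAs (IsMonHom ((Over.pullback t).map u))
  haveI : LocallyOfFiniteType (Red.bc t G).hom := MorphismProperty.pullback_snd _ _ ‹LocallyOfFiniteType G.hom›
  haveI : LocallyOfFiniteType (Red.bc t H).hom := MorphismProperty.pullback_snd _ _ ‹LocallyOfFiniteType H.hom›
  have hcomm : ∀ x, e H (u'.left x) = u.left (e G x) := fun x => by
    have h : u'.left ≫ π H = π G ≫ u.left := pullback.lift_fst _ _ _
    exact congr($h x)
  have sq : IsPullback (π G) u'.left u.left (π H) := by
    refine IsPullback.of_bot ?_ (pullback.lift_fst _ _ _).symm (IsPullback.of_hasPullback H.hom t)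
    rw [Over.w u, show u'.left ≫ pullback.snd H.hom t = pullback.snd G.hom t from pullback.lift_snd _ _ _]
    exact IsPullback.of_hasPullback _ _
  haveI : QuasiCompact u'.left := MorphismProperty.of_isPullback sq ‹QuasiCompact u.left›
  obtain ⟨hcl, hdim⟩ := isClosed_range_and_dim u'
  have hr : e H '' Set.range u'.left = Set.range u.left := by
    rw [← Set.range_comp]
    ext y
    constructor
    · rintro ⟨x, rfl⟩; exact ⟨e G x, (hcomm x).symm⟩
    · rintro ⟨x, rfl⟩; exact ⟨(e G).symm x, (hcomm _).trans (by rw [Homeomorph.apply_symm_apply])⟩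
  haveI : Subsingleton (𝟙_ (Over (Spec (CommRingCat.of A)))).left :=
    inferInstanceAs (Subsingleton (PrimeSpectrum A))
  let o : (𝟙_ (Over (Spec (CommRingCat.of A)))).left := IsLocalRing.closedPoint A
  have hone : e H (Component.one (Red.bc t H)) = η[H].left o := by
    have h : ∃ q, (η[Red.bc t H]).left (IsLocalRing.closedPoint _) = q := ⟨_, rfl⟩
    have hc : η[Red.bc t H] = Functor.LaxMonoidal.ε (Over.pullback t) ≫ (Over.pullback t).map η[H] :=
      rfl
    show (π H) ((η[Red.bc t H]).left _) = _
    rw [hc, Over.comp_left, ← Scheme.Hom.comp_apply, Category.assoc,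
      show ((Over.pullback t).map η[H]).left ≫ π H = pullback.fst _ t ≫ η[H].left from pullback.lift_fst _ _ _,
      Scheme.Hom.comp_apply, Scheme.Hom.comp_apply]
    exact congrArg η[H].left (Subsingleton.elim _ _)
  have hrη : Set.range (η[H] : 𝟙_ (Over (Spec (CommRingCat.of A))) ⟶ H).left = {η[H].left o} :=
    Set.eq_singleton_iff_unique_mem.2 ⟨⟨o, rfl⟩, by
      rintro _ ⟨q, rfl⟩; exact congrArg _ (Subsingleton.elim _ _)⟩
  have hker : e G '' (u'.left ⁻¹' {Component.one (Red.bc t H)}) =
      Set.range (pullback.fst u.left (η[H] : 𝟙_ (Over (Spec (CommRingCat.of A))) ⟶ H).left) := by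
    rw [range_pullback_unit, hrη]
    ext y
    constructor
    · rintro ⟨x, hx, rfl⟩
      show u.left (e G x) = _
      rw [← hcomm, Set.mem_singleton_iff.1 hx, hone]
    · intro hy
      refine ⟨(e G).symm y, (e H).injective ?_, Homeomorph.apply_symm_apply _ _⟩
      rw [hcomm, Homeomorph.apply_symm_apply, hone]
      exact hy
  have hemb : Topology.IsEmbedding (pullback.fst u.left (η[H] : 𝟙_ (Over (Spec (CommRingCat.of A))) ⟶ H).left) := by
    haveI : IsImmersion ((η[H] : 𝟙_ (Over (Spec (CommRingCat.of A))) ⟶ H).left ≫ H.hom) := by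
      rw [Over.w]; exact inferInstanceAs (IsImmersion (𝟙 _))
    haveI : IsImmersion (η[H] : 𝟙_ (Over (Spec (CommRingCat.of A))) ⟶ H).left := IsImmersion.of_comp _ H.hom
    haveI : IsImmersion (pullback.fst u.left (η[H] : 𝟙_ (Over (Spec (CommRingCat.of A))) ⟶ H).left) :=
      MorphismProperty.pullback_fst _ _ inferInstance
    exact Scheme.Hom.isEmbedding _
  refine ⟨hr ▸ (e H).isClosedMap _ hcl, ?_⟩
  rw [← IsHomeomorph.topologicalKrullDim_eq _ (e G).isHomeomorph, hdim]
  congr 1
  · exact IsHomeomorph.topologicalKrullDim_eq _ (((e H).image _).trans (Homeomorph.setCongr hr)).isHomeomorph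
  · exact (IsHomeomorph.topologicalKrullDim_eq _ (((e G).image _).trans (Homeomorph.setCongr hker)).isHomeomorph).trans
      (IsHomeomorph.topologicalKrullDim_eq _ hemb.toHomeomorph.isHomeomorph).symm

end Groth.L15.KerDim
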